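import Cfsg.Agent.H520.RC.SpDefs

/-!
# S3510, `PSp_4(5)`: linear algebra over a field with five elements (helper63)
-/

set_option autoImplicit false
open Cfsg

namespace Cfsg.Agent.H63.RC

open Module Cfsg.Agent.H520.RC

section pairs

variable {R S : Type*} [CommRing R] [CommRing S]

/-- multiplication of `a + b X`, `X ^ 2 + X + 1 = 0` -/
def mulP (p q : R × R) : R × R := (p.1 * q.1 - p.2 * q.2, p.1 * q.2 + p.2 * q.1 - p.2 * q.2)

/-- powers -/
def powP (p : R × R) : ℕ → R × R
  | 0 => (1, 0)
  | n + 1 => mulP p (powP p n)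

theorem powP_map (f : R →+* S) (a b : R) (n : ℕ) :
    powP (f a, f b) n = (f (powP (a, b) n).1, f (powP (a, b) n).2) := by
  induction n with
  | zero => simp [powP]
  | succ n ih => simp [powP, ih, mulP]

theorem powP_dec : ∀ a b : ZMod 5, (a ≠ 0 ∨ b ≠ 0) → powP (a, b) 24 = (1, 0) := by
  decide +kernel

end pairs

section field

variable {F : Type*} [Field F] [Finite F]

theorem exists_zmod (h5 : Nat.card F = 5) : Nonempty (ZMod 5 ≃+* F) := by
  have : Fintype F := Fintype.ofFinite F
  rw [Nat.card_eq_fintype_card] at h5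
  exact ⟨ZMod.ringEquivOfPrime F (by norm_num) h5⟩

theorem five_zero (h5 : Nat.card F = 5) : (5 : F) = 0 := by
  obtain ⟨e⟩ := exists_zmod h5
  have h : e (5 : ZMod 5) = 5 := map_ofNat e 5
  rw [← h, show (5 : ZMod 5) = 0 from by decide, map_zero]

theorem five_cases (h5 : Nat.card F = 5) (a : F) : a = 0 ∨ a = 1 ∨ a = -1 ∨ a = 2 ∨ a = -2 := by
  obtain ⟨e⟩ := exists_zmod h5
  obtain ⟨b, rfl⟩ := e.surjective a
  have h : ∀ b : ZMod 5, b = 0 ∨ b = 1 ∨ b = -1 ∨ b = 2 ∨ b = -2 := by decide
  rcases h b with rfl | rfl | rfl | rfl | rfl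
  · left; rw [map_zero]
  · right; left; rw [map_one]
  · right; right; left; rw [map_neg, map_one]
  · right; right; right; left; rw [map_ofNat]
  · right; right; right; right; rw [map_neg, map_ofNat]

theorem five_two (h5 : Nat.card F = 5) : (2 : F) ≠ 0 := by
  intro h
  have h1 := five_zero h5
  exact one_ne_zero (by linear_combination h1 - 2 * h : (1 : F) = 0)

theorem five_three (h5 : Nat.card F = 5) : (3 : F) ≠ 0 := by
  intro h
  have h1 := five_zero h5
  exact one_ne_zero (by linear_combination 2 * h - h1 : (1 : F) = 0)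

theorem five_pow4 (h5 : Nat.card F = 5) {a : F} (ha : a ≠ 0) : a ^ 4 = 1 := by
  have h0 := five_zero h5
  rcases five_cases h5 a with rfl | rfl | rfl | rfl | rfl
  · exact (ha rfl).elim
  · ring
  · ring
  · linear_combination 3 * h0
  · linear_combination 3 * h0

theorem five_root (h5 : Nat.card F = 5) (a : F) : a * a + a + 1 ≠ 0 := by
  have h0 := five_zero h5
  have h3 := five_three h5
  intro h
  rcases five_cases h5 a with rfl | rfl | rfl | rfl | rfl
  · exact one_ne_zero (by linear_combination h : (1 : F) = 0)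
  · exact h3 (by linear_combination h)
  · exact one_ne_zero (by linear_combination h : (1 : F) = 0)
  · exact five_two h5 (by linear_combination h - h0)
  · exact h3 (by linear_combination h)

/-- square roots in `F + F X` -/
theorem five_sqrt (h5 : Nat.card F = 5) {a : F} (ha : a ≠ 0) :
    (∃ l : F, l * l = a) ∨ (¬ IsSquare a ∧ ∃ p : F × F, p.2 ≠ 0 ∧ mulP p p = (a, 0)) := by
  have h0 := five_zero h5
  have h2 := five_two h5
  have h3 := five_three h5
  have hns : ∀ b : F, ¬ b * b = 2 := by
    intro b hb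
    rcases five_cases h5 b with rfl | rfl | rfl | rfl | rfl
    · exact h2 (by linear_combination -hb)
    · exact one_ne_zero (by linear_combination -hb : (1 : F) = 0)
    · exact one_ne_zero (by linear_combination -hb : (1 : F) = 0)
    · exact h2 (by linear_combination hb)
    · exact h2 (by linear_combination hb)
  rcases five_cases h5 a with rfl | rfl | rfl | rfl | rfl
  · exact (ha rfl).elim
  · exact Or.inl ⟨1, by ring⟩
  · exact Or.inl ⟨2, by linear_combination h0⟩
  · right
    refine ⟨?_, (1, 2), h2, ?_⟩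
    · rintro ⟨b, hb⟩
      exact hns b hb.symm
    · ext
      · show (1 : F) * 1 - 2 * 2 = 2
        linear_combination -h0
      · show (1 : F) * 2 + 2 * 1 - 2 * 2 = 0
        ring
  · right
    refine ⟨?_, (2, -1), by simp, ?_⟩
    · rintro ⟨b, hb⟩
      exact hns (2 * b) (by linear_combination -4 * hb - 2 * h0)
    · ext
      · show (2 : F) * 2 - (-1) * (-1) = -2
        linear_combination h0
      · show (2 : F) * (-1) + (-1) * 2 - (-1) * (-1) = 0
        linear_combination -h0

theorem five_powP (h5 : Nat.card F = 5) {p : F × F} (hp : p ≠ 0) : powP p 24 = (1, 0) := by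
  obtain ⟨e⟩ := exists_zmod h5
  obtain ⟨a, b⟩ := p
  obtain ⟨a, rfl⟩ := e.surjective a
  obtain ⟨b, rfl⟩ := e.surjective b
  have h : a ≠ 0 ∨ b ≠ 0 := by
    by_contra hno
    push Not at hno
    apply hp
    rw [hno.1, hno.2, map_zero]
    rfl
  have h1 := powP_map (e : ZMod 5 →+* F) a b 24
  rw [powP_dec a b h] at h1
  simpa using h1

end field

section lin

variable {F V : Type*} [Field F] [AddCommGroup V] [Module F V]

/-- `a + b X` -/
def kk (X : Module.End F V) (p : F × F) : Module.End F V := p.1 • 1 + p.2 • X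

theorem kk_apply (X : Module.End F V) (p : F × F) (v : V) : kk X p v = p.1 • v + p.2 • X v := rfl

theorem kk_kk {X : Module.End F V} (p q : F × F) {v : V} (hv : X (X v) + X v + v = 0) :
    kk X p (kk X q v) = kk X (mulP p q) v := by
  have h : X (X v) = - X v - v := by rw [← sub_eq_zero, ← hv]; abel
  rw [kk_apply, kk_apply, kk_apply, map_add, map_smul, map_smul, h, mulP]
  module

theorem kk_inv {X : Module.End F V} (p : F × F) {v : V} (hv : X (X v) + X v + v = 0) :
    X (X (kk X p v)) + X (kk X p v) + kk X p v = 0 := by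
  have h : X (X v) = - X v - v := by rw [← sub_eq_zero, ← hv]; abel
  simp only [kk_apply, map_add, map_smul, h, map_sub, map_neg]
  module

theorem kk_comm {X Y : Module.End F V} (h : ∀ v, Y (X v) = X (Y v)) (p : F × F) (v : V) :
    Y (kk X p v) = kk X p (Y v) := by
  rw [kk_apply, kk_apply, map_add, map_smul, map_smul, h]

theorem kk_powP {X : Module.End F V} (p : F × F) {v : V} (hv : X (X v) + X v + v = 0) (n : ℕ) :
    ((kk X p) ^ n) v = kk X (powP p n) v := by
  induction n with
  | zero => simp [powP, kk_apply]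
  | succ n ih => rw [pow_succ', Module.End.mul_apply, ih, kk_kk p _ hv]; rfl

theorem pow_of_eig {X Y : Module.End F V} (h : ∀ v, Y (X v) = X (Y v)) {p : F × F} {v : V}
    (hv : Y v = kk X p v) (n : ℕ) : (Y ^ n) v = ((kk X p) ^ n) v := by
  induction n with
  | zero => rfl
  | succ n ih =>
    rw [pow_succ', Module.End.mul_apply, ih]
    have h1 : ∀ m w, Y (((kk X p) ^ m) w) = ((kk X p) ^ m) (Y w) := by
      intro m
      induction m with
      | zero => intro w; rfl
      | succ m ihm =>
        intro w
        rw [pow_succ', Module.End.mul_apply, Module.End.mul_apply, kk_comm h, ihm]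
    rw [h1, hv, ← Module.End.mul_apply, ← pow_succ]

/-- on a line over `F[X]` the 24-th power is trivial -/
theorem pow24_of_eig [Finite F] (h5 : Nat.card F = 5) {X Y : Module.End F V} (h : ∀ v, Y (X v) = X (Y v))
    (hY : Function.Injective Y) {p : F × F} {v : V} (hv : X (X v) + X v + v = 0) (hYv : Y v = kk X p v) :
    (Y ^ 24) v = v := by
  by_cases hp : p = 0
  · have h1 : Y v = Y 0 := by rw [hYv, hp, map_zero, kk_apply]; simp
    rw [hY h1, map_zero]
  · rw [pow_of_eig h hYv, kk_powP p hv, five_powP h5 hp, kk_apply]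
    simp

theorem kk_ne_zero [Finite F] (h5 : Nat.card F = 5) {X : Module.End F V} {p : F × F} (hp : p ≠ 0) {v : V}
    (hv : X (X v) + X v + v = 0) (h0 : kk X p v = 0) : v = 0 := by
  have h1 := kk_powP (X := X) p hv 24
  rw [five_powP h5 hp, pow_succ, Module.End.mul_apply, h0, map_zero, kk_apply] at h1
  simpa using h1.symm

/-- four vectors -/
theorem span4 [Finite F] [FiniteDimensional F V] (h5 : Nat.card F = 5) (h4 : finrank F V = 4)
    {X : Module.End F V} (hX : ∀ v, X (X v) + X v + v = 0) {v w : V} (hv : v ≠ 0)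
    (hw : ∀ p, w ≠ kk X p v) (z : V) : ∃ p q, z = kk X p v + kk X q w := by
  have hli : LinearIndependent F ![v, X v, w, X w] := by
    rw [Fintype.linearIndependent_iff]
    intro g hg
    rw [Fin.sum_univ_four] at hg
    change g 0 • v + g 1 • X v + g 2 • w + g 3 • X w = 0 at hg
    have h1 : kk X (g 2, g 3) w = kk X (-g 0, -g 1) v := by
      rw [kk_apply, kk_apply, ← sub_eq_zero, ← hg]
      module
    have h2 : ((g 2, g 3) : F × F) = 0 := by
      by_contra hne
      -- w = (kk (g 2, g 3)) ^ 23 (kk .. v)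
      have h3 : ((kk X (g 2, g 3)) ^ 24) w = w := by
        rw [kk_powP _ (hX w), five_powP h5 hne, kk_apply]; simp
      rw [pow_succ, Module.End.mul_apply, h1, kk_powP _ (hX _), kk_kk _ _ (hX v)] at h3
      exact hw _ h3.symm
    have h4 : g 2 = 0 := congrArg Prod.fst h2
    have h5' : g 3 = 0 := congrArg Prod.snd h2
    have h6 : ((-g 0, -g 1) : F × F) = 0 := by
      by_contra hne
      apply hv
      apply kk_ne_zero h5 hne (hX v)
      rw [← h1, kk_apply, h4, h5']
      simp
    have h7 : g 0 = 0 := neg_eq_zero.1 (congrArg Prod.fst h6)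
    have h8 : g 1 = 0 := neg_eq_zero.1 (congrArg Prod.snd h6)
    intro i
    fin_cases i
    · exact h7
    · exact h8
    · exact h4
    · exact h5'
  have hsp : Submodule.span F (Set.range ![v, X v, w, X w]) = ⊤ :=
    hli.span_eq_top_of_card_eq_finrank (by rw [h4]; rfl)
  have hz : z ∈ Submodule.span F (Set.range ![v, X v, w, X w]) := by rw [hsp]; trivial
  obtain ⟨c, hc⟩ := (Submodule.mem_span_range_iff_exists_fun F).1 hz
  rw [Fin.sum_univ_four] at hc
  refine ⟨(c 0, c 1), (c 2, c 3), ?_⟩
  rw [← hc, kk_apply, kk_apply]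
  show c 0 • v + c 1 • X v + c 2 • w + c 3 • X w = _
  abel

end lin

end Cfsg.Agent.H63.RC
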