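import Cfsg.Agent.H63.RC.FiveAlg

/-!
# S3510, `PSp_4(5)`: elements of order prime to `30` (helper63)
-/

set_option autoImplicit false
open Cfsg

namespace Cfsg.Agent.H63.RC

open Module Cfsg.Agent.H520.RC

variable {F V : Type*} [Field F] [AddCommGroup V] [Module F V]

theorem eq_one_of_cop {M : Type*} [Monoid M] {y : M} {m n : ℕ} (h : m.Coprime n) (h1 : y ^ m = 1) (h2 : y ^ n = 1) :
    y = 1 := by
  have h3 := pow_gcd_eq_one.2 ⟨h1, h2⟩
  rwa [h, pow_one] at h3

theorem inj_of_pow {Y : Module.End F V} {n : ℕ} (hn : n ≠ 0) (h : Y ^ n = 1) : Function.Injective Y := by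
  obtain ⟨m, rfl⟩ := Nat.exists_eq_succ_of_ne_zero hn
  intro a b hab
  have h1 : (Y ^ (m + 1)) a = (Y ^ (m + 1)) b := by
    rw [pow_succ, Module.End.mul_apply, Module.End.mul_apply, hab]
  rw [Nat.succ_eq_add_one] at h
  rw [h] at h1
  exact h1

/-- quadratic equation with constant term one -/
theorem pow60_of_quad [Finite F] (h5 : Nat.card F = 5) {W : Module.End F V} {t : F} {v : V}
    (h : ∀ n : ℕ, W (W ((W ^ n) v)) = t • W ((W ^ n) v) - (W ^ n) v) : (W ^ 60) v = v := by
  have h0 := five_zero h5
  have hs : ∀ n, (W ^ (n + 2)) v = t • (W ^ (n + 1)) v - (W ^ n) v := by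
    intro n
    rw [pow_succ', pow_succ', Module.End.mul_apply, Module.End.mul_apply]
    exact h n
  have hc : ∀ n : ℕ, (W ^ (n + 60)) v = (W ^ n) v := by
    rcases five_cases h5 t with rfl | rfl | rfl | rfl | rfl
    · have h4 : ∀ n, (W ^ (n + 4)) v = (W ^ n) v := by
        intro n
        rw [hs (n + 2), hs n]; simp
      intro n
      have e : n + 60 = n + 4 * 15 := by ring
      rw [e]
      generalize 15 = k
      induction k with
      | zero => rfl
      | succ k ih => rw [show n + 4 * (k + 1) = n + 4 * k + 4 by ring, h4, ih]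
    · have h3 : ∀ n, (W ^ (n + 3)) v = - (W ^ n) v := by
        intro n
        rw [hs (n + 1), hs n]
        module
      have h4 : ∀ n, (W ^ (n + 6)) v = (W ^ n) v := by
        intro n
        rw [h3 (n + 3), h3 n, neg_neg]
      intro n
      have e : n + 60 = n + 6 * 10 := by ring
      rw [e]
      generalize 10 = k
      induction k with
      | zero => rfl
      | succ k ih => rw [show n + 6 * (k + 1) = n + 6 * k + 6 by ring, h4, ih]
    · have h4 : ∀ n, (W ^ (n + 3)) v = (W ^ n) v := by
        intro n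
        rw [hs (n + 1), hs n]
        module
      intro n
      have e : n + 60 = n + 3 * 20 := by ring
      rw [e]
      generalize 20 = k
      induction k with
      | zero => rfl
      | succ k ih => rw [show n + 3 * (k + 1) = n + 3 * k + 3 by ring, h4, ih]
    · have h4 : ∀ n, (W ^ (n + 5)) v = (W ^ n) v := by
        intro n
        rw [hs (n + 3), hs (n + 2), hs (n + 1), hs n]
        have e : (2 : F) • ((2 : F) • ((2 : F) • ((2 : F) • (W ^ (n + 1)) v - (W ^ n) v) - (W ^ (n + 1)) v) -
            ((2 : F) • (W ^ (n + 1)) v - (W ^ n) v)) -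
            ((2 : F) • ((2 : F) • (W ^ (n + 1)) v - (W ^ n) v) - (W ^ (n + 1)) v) - (W ^ n) v =
            (5 : F) • ((W ^ (n + 1)) v - (W ^ n) v) := by module
        rw [← sub_eq_zero, e, h0, zero_smul]
      intro n
      have e : n + 60 = n + 5 * 12 := by ring
      rw [e]
      generalize 12 = k
      induction k with
      | zero => rfl
      | succ k ih => rw [show n + 5 * (k + 1) = n + 5 * k + 5 by ring, h4, ih]
    · have h3 : ∀ n, (W ^ (n + 5)) v = - (W ^ n) v := by
        intro n
        rw [hs (n + 3), hs (n + 2), hs (n + 1), hs n]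
        have e : (-2 : F) • ((-2 : F) • ((-2 : F) • ((-2 : F) • (W ^ (n + 1)) v - (W ^ n) v) - (W ^ (n + 1)) v) -
            ((-2 : F) • (W ^ (n + 1)) v - (W ^ n) v)) -
            ((-2 : F) • ((-2 : F) • (W ^ (n + 1)) v - (W ^ n) v) - (W ^ (n + 1)) v) - (- (W ^ n) v) =
            (5 : F) • ((W ^ (n + 1)) v + (W ^ n) v) := by module
        rw [← sub_eq_zero, e, h0, zero_smul]
      have h4 : ∀ n, (W ^ (n + 10)) v = (W ^ n) v := by
        intro n
        rw [h3 (n + 5), h3 n, neg_neg]
      intro n
      have e : n + 60 = n + 10 * 6 := by ring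
      rw [e]
      generalize 6 = k
      induction k with
      | zero => rfl
      | succ k ih => rw [show n + 10 * (k + 1) = n + 10 * k + 10 by ring, h4, ih]
  simpa using hc 0

/-- isometries of a plane -/
theorem pow60_plane [Finite F] (h5 : Nat.card F = 5) {B : LinearMap.BilinForm F V} (hB : ∀ x, B x x = 0)
    {A : Submodule F V} [FiniteDimensional F V] (h2 : finrank F A = 2) (hA : ∀ a ∈ A, (∀ b ∈ A, B a b = 0) → a = 0)
    {Y : Module.End F V} (hY : ∀ u ∈ A, ∀ v ∈ A, B (Y u) (Y v) = B u v) (hi : ∀ v ∈ A, Y v ∈ A) {v : V} (hv : v ∈ A) :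
    (Y ^ 60) v = v := by
  have hsw : ∀ x y, B x y = - B y x := by
    intro x y
    have h1 := hB (x + y)
    simp only [map_add, LinearMap.add_apply, hB, zero_add, add_zero] at h1
    linear_combination h1
  have : Nontrivial A := Module.nontrivial_of_finrank_pos (R := F) (by omega)
  obtain ⟨⟨e, he⟩, he0⟩ := exists_ne (0 : A)
  have he1 : e ≠ 0 := fun h => he0 (Subtype.ext h)
  obtain ⟨f0, hf0, hef0⟩ : ∃ f ∈ A, B e f ≠ 0 := by
    by_contra hno
    push Not at hno
    exact he1 (hA e he hno)
  obtain ⟨f, hf, hef⟩ : ∃ f ∈ A, B e f = 1 :=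
    ⟨(B e f0)⁻¹ • f0, A.smul_mem _ hf0, by rw [map_smul, smul_eq_mul, inv_mul_cancel₀ hef0]⟩
  have hfe : B f e = -1 := by rw [hsw, hef]
  have hdec : ∀ a ∈ A, a = B a f • e + B e a • f := by
    have hli : LinearIndependent F ![(⟨e, he⟩ : A), ⟨f, hf⟩] := by
      rw [LinearIndependent.pair_iff]
      intro s t hst
      have h1 : s • e + t • f = 0 := congrArg Subtype.val hst
      have h2 := congrArg (fun x => B x f) h1
      have h3 := congrArg (fun x => B e x) h1
      simp only [map_add, LinearMap.add_apply, map_smul, LinearMap.smul_apply, hef, hB,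
        smul_eq_mul, mul_one, map_zero, LinearMap.zero_apply, mul_zero, add_zero, zero_add] at h2 h3
      exact ⟨h2, h3⟩
    have hsp : Submodule.span F (Set.range ![(⟨e, he⟩ : A), ⟨f, hf⟩]) = ⊤ :=
      hli.span_eq_top_of_card_eq_finrank (by rw [h2]; rfl)
    intro a ha
    have hz : (⟨a, ha⟩ : A) ∈ Submodule.span F (Set.range ![(⟨e, he⟩ : A), ⟨f, hf⟩]) := by rw [hsp]; trivial
    obtain ⟨c, hc⟩ := (Submodule.mem_span_range_iff_exists_fun F).1 hz
    rw [Fin.sum_univ_two] at hc
    have hc' : c 0 • e + c 1 • f = a := congrArg Subtype.val hc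
    rw [← hc']
    simp only [map_add, LinearMap.add_apply, map_smul, LinearMap.smul_apply, hef, hB,
        smul_eq_mul, mul_one, mul_zero, add_zero, zero_add]
  have hYe := hdec _ (hi e he)
  have hYf := hdec _ (hi f hf)
  set p := B (Y e) f
  set q := B e (Y e)
  set r := B (Y f) f
  set s := B e (Y f)
  have hdet : p * s - q * r = 1 := by
    have h1 := hY e he f hf
    rw [hYe, hYf, hef] at h1
    simp only [map_add, LinearMap.add_apply, map_smul, LinearMap.smul_apply, hef, hfe, hB, smul_eq_mul] at h1
    linear_combination h1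
  have hq : ∀ a ∈ A, Y (Y a) = (p + s) • Y a - a := by
    have hqe : Y (Y e) = (p + s) • Y e - e := by
      conv_lhs => rw [hYe]
      rw [map_add, map_smul, map_smul, hYf, hYe]
      have h1 : p • (p • e + q • f) + q • (r • e + s • f) - ((p + s) • (p • e + q • f) - e) =
        (1 - (p * s - q * r)) • e := by module
      rw [← sub_eq_zero, h1, hdet, sub_self, zero_smul]
    have hqf : Y (Y f) = (p + s) • Y f - f := by
      conv_lhs => rw [hYf]
      rw [map_add, map_smul, map_smul, hYf, hYe]
      have h1 : r • (p • e + q • f) + s • (r • e + s • f) - ((p + s) • (r • e + s • f) - f) =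
        (1 - (p * s - q * r)) • f := by module
      rw [← sub_eq_zero, h1, hdet, sub_self, zero_smul]
    intro a ha
    rw [hdec a ha]
    simp only [map_add, map_smul, hqe, hqf]
    module
  refine pow60_of_quad h5 (t := p + s) fun n => hq _ ?_
  induction n with
  | zero => exact hv
  | succ n ih => rw [pow_succ', Module.End.mul_apply]; exact hi _ ih

/-- an isometry commuting with the field `F[X]` with `25` elements, `dim V = 4` -/
theorem excl [Finite F] [FiniteDimensional F V] (h5 : Nat.card F = 5) (h4 : finrank F V = 4)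
    {B : LinearMap.BilinForm F V} (hB : NAlt B) {X Y : Module.End F V} (hX : ∀ v, X (X v) + X v + v = 0)
    (hXB : ∀ u v, B (X u) (X v) = B u v) (hYB : ∀ u v, B (Y u) (Y v) = B u v) (hc : ∀ v, Y (X v) = X (Y v))
    {n : ℕ} (hn : n.Coprime 30) (hYn : Y ^ n = 1) : Y = 1 := by
  have hn0 : n ≠ 0 := by
    rintro rfl
    norm_num at hn
  have hcop : ∀ k, k ∣ 30 ^ 5 → n.Coprime k := fun k hk => Nat.Coprime.coprime_dvd_right hk (hn.pow_right 5)
  have hYi := inj_of_pow hn0 hYn
  by_cases hall : ∀ v, ∃ p, Y v = kk X p v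
  · apply eq_one_of_cop (hcop 24 (by norm_num)) hYn
    apply LinearMap.ext
    intro v
    obtain ⟨p, hp⟩ := hall v
    exact pow24_of_eig h5 hc hYi (hX v) hp
  push Not at hall
  obtain ⟨v, hv⟩ := hall
  have hv0 : v ≠ 0 := by
    rintro rfl
    exact hv 0 (by rw [map_zero, map_zero])
  obtain ⟨k1, k2, hY2⟩ := span4 h5 h4 hX hv0 hv (Y (Y v))
  -- the quadratic equation
  have hkY : ∀ p, Commute (kk X p) Y := fun p => LinearMap.ext fun z => (kk_comm hc p z).symm
  have hkk : ∀ p q, kk X p * kk X q = kk X (mulP p q) := fun p q => LinearMap.ext fun z => kk_kk p q (hX z)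
  have hkc : ∀ p q, Commute (kk X p) (kk X q) := fun p q =>
    LinearMap.ext fun z => kk_comm (fun z => (kk_comm (fun _ => rfl) p z).symm) q z
  set t := kk X k2
  set d := - kk X k1
  have htY : Commute t Y := hkY k2
  have hdY : Commute d Y := (hkY k1).neg_left
  have hdt : Commute d t := (hkc k1 k2).neg_left
  have hquad : Y * Y = t * Y - d := by
    have hP : ∀ z, (Y * Y - t * Y + d) z = 0 := by
      set P := Y * Y - t * Y + d
      have hPY : Commute P Y := by
        refine Commute.add_left (Commute.sub_left ((Commute.refl Y).mul_left (Commute.refl Y)) ?_) hdY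
        exact htY.mul_left (Commute.refl Y)
      have hPk : ∀ p, Commute P (kk X p) := by
        intro p
        refine Commute.add_left (Commute.sub_left ((hkY p).symm.mul_left (hkY p).symm) ?_) (hkc k1 p).neg_left
        exact (hkc k2 p).mul_left (hkY p).symm
      have hPv : P v = 0 := by
        show Y (Y v) - kk X k2 (Y v) + - kk X k1 v = 0
        rw [hY2]; abel
      intro z
      obtain ⟨p, q, rfl⟩ := span4 h5 h4 hX hv0 hv z
      have e1 : P (kk X p v) = kk X p (P v) := LinearMap.congr_fun (hPk p) v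
      have e2 : P (kk X q (Y v)) = kk X q (P (Y v)) := LinearMap.congr_fun (hPk q) (Y v)
      have e3 : P (Y v) = Y (P v) := LinearMap.congr_fun hPY v
      rw [map_add, e1, e2, e3, hPv]
      simp
    have h1 : Y * Y - t * Y + d = 0 := LinearMap.ext hP
    rw [← sub_eq_zero, ← h1]
    abel
  set Y' := t - Y
  have hYY' : Commute Y Y' := (htY.symm).sub_right (Commute.refl Y)
  have hm : Y * Y' = d := by
    show Y * (t - Y) = d
    rw [mul_sub, hquad, htY.eq]
    abel
  have hquad' : Y' * Y' = t * Y' - d := by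
    have h1 : Y' * Y' = t * Y' - Y * Y' := by
      show (t - Y) * Y' = _
      rw [sub_mul]
    rw [h1, hm]
  -- `d ^ 24 = 1`
  have hd24 : d ^ 24 = 1 := by
    have hdk : d = kk X (-k1) := by
      apply LinearMap.ext
      intro z
      show - kk X k1 z = _
      rw [kk_apply, kk_apply, Prod.fst_neg, Prod.snd_neg]
      module
    have hk1 : -k1 ≠ 0 := by
      intro h0
      have h1 : d = 0 := by
        rw [hdk, h0]
        apply LinearMap.ext
        intro z
        simp [kk_apply]
      have h2 : Y (Y' v) = Y 0 := by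
        rw [map_zero]
        have := LinearMap.congr_fun hm v
        rw [h1] at this
        exact this
      have h3 : Y' v = 0 := hYi h2
      exact hv k2 (sub_eq_zero.1 h3).symm
    apply LinearMap.ext
    intro z
    rw [hdk, kk_powP _ (hX z), five_powP h5 hk1, kk_apply]
    simp
  have hWW' : Y ^ 24 * Y' ^ 24 = 1 := by rw [← hYY'.mul_pow, hm, hd24]
  have hsum : ∀ m : ℕ, ∃ p, Y ^ m + Y' ^ m = kk X p := by
    have hrec : ∀ Z : Module.End F V, Z * Z = t * Z - d → ∀ m : ℕ, Z ^ (m + 2) = t * Z ^ (m + 1) - d * Z ^ m := by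
      intro Z hZ m
      rw [add_comm m 2, pow_add, pow_two, hZ, sub_mul, mul_assoc, ← pow_succ', add_comm]
    intro m
    induction m using Nat.twoStepInduction with
    | zero => exact ⟨(2, 0), LinearMap.ext fun z => by
        rw [pow_zero, pow_zero, kk_apply]
        show z + z = _
        module⟩
    | one => exact ⟨k2, by rw [pow_one, pow_one]; show Y + (t - Y) = t; abel⟩
    | more m ih1 ih2 =>
      obtain ⟨p, hp⟩ := ih1
      obtain ⟨q, hq⟩ := ih2
      refine ⟨mulP k2 q + mulP k1 p, ?_⟩
      have h1 : Y ^ (m + 2) + Y' ^ (m + 2) = t * (Y ^ (m + 1) + Y' ^ (m + 1)) - d * (Y ^ m + Y' ^ m) := by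
        rw [hrec Y hquad, hrec Y' hquad', mul_add, mul_add]
        abel
      rw [h1, hp, hq]
      show kk X k2 * kk X q - (- kk X k1) * kk X p = _
      rw [neg_mul, sub_neg_eq_add, hkk, hkk]
      apply LinearMap.ext
      intro z
      rw [LinearMap.add_apply, kk_apply, kk_apply, kk_apply, Prod.fst_add, Prod.snd_add]
      module
  have hWW'' : Y' ^ 24 * Y ^ 24 = 1 := by
    have h1 : Commute (Y' ^ 24) (Y ^ 24) := (hYY'.symm).pow_pow 24 24
    rw [h1.eq, hWW']
  obtain ⟨p, hp⟩ := hsum 24
  set W := Y ^ 24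
  set W' := Y' ^ 24
  have hW'W : W' * W = 1 := hWW''
  have hWB : ∀ u v, B (W u) (W v) = B u v := by
    have : ∀ m : ℕ, ∀ u v, B ((Y ^ m) u) ((Y ^ m) v) = B u v := by
      intro m
      induction m with
      | zero => intro u v; rfl
      | succ m ih => intro u v; rw [pow_succ', Module.End.mul_apply, Module.End.mul_apply, hYB, ih]
    exact this 24
  have hWW1 : ∀ u, W (W' u) = u := by
    intro u
    rw [← Module.End.mul_apply, hWW']
    rfl
  have hWW2 : ∀ u, W' (W u) = u := by
    intro u
    rw [← Module.End.mul_apply, hW'W]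
    rfl
  have hadj : ∀ u v, B (kk X p u) v = B u (kk X p v) := by
    intro u v
    rw [← hp]
    show B (W u + W' u) v = B u (W v + W' v)
    rw [map_add, map_add, LinearMap.add_apply]
    have h1 : B (W u) v = B u (W' v) := by rw [← hWB u, hWW1]
    have h2 : B (W' u) v = B u (W v) := by rw [← hWB (W' u), hWW1]
    rw [h1, h2, add_comm]
  have hp2 : p.2 = 0 := by
    by_contra hne
    have h1 : ∀ u v, B (X u) v = B u (X v) := by
      intro u v
      have h2 := hadj u v
      simp only [kk_apply, map_add, LinearMap.add_apply, map_smul, LinearMap.smul_apply, smul_eq_mul] at h2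
      have h3 : p.2 * (B (X u) v - B u (X v)) = 0 := by linear_combination h2
      rcases mul_eq_zero.1 h3 with h4 | h4
      · exact (hne h4).elim
      · exact sub_eq_zero.1 h4
    have h2 : ∀ v, X (X v) = v := by
      intro v
      rw [← sub_eq_zero]
      apply hB.nd'
      intro u
      rw [map_sub, ← h1, hXB, sub_self]
    have h3 : ∀ v, X v = (-2 : F) • v := by
      intro v
      have h4 := hX v
      rw [h2] at h4
      have h5 : X v - (-2 : F) • v = v + X v + v := by module
      rw [← sub_eq_zero, h5, h4]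
    have h4 := h2 v
    rw [h3 v, map_smul, h3 v] at h4
    have h6 : (3 : F) • v = 0 := by
      have h7 : (3 : F) • v = (-2 : F) • (-2 : F) • v - v := by module
      rw [h7, h4, sub_self]
    rcases smul_eq_zero.1 h6 with h7 | h7
    · exact five_three h5 h7
    · exact hv0 h7
  have hWq : W * W = p.1 • W - 1 := by
    have h1 : W + W' = p.1 • 1 := by
      rw [hp]
      apply LinearMap.ext
      intro z
      rw [kk_apply, hp2, zero_smul, add_zero]
      rfl
    have h2 : W * (W + W') = W * (p.1 • 1) := by rw [h1]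
    rw [mul_add, hWW', mul_smul_comm, mul_one] at h2
    rw [← h2, add_sub_cancel_right]
  have hW60 : W ^ 60 = 1 := by
    apply LinearMap.ext
    intro z
    refine pow60_of_quad h5 (t := p.1) fun m => ?_
    exact LinearMap.congr_fun hWq ((W ^ m) z)
  apply eq_one_of_cop (hcop (24 * 60) (by norm_num)) hYn
  rw [pow_mul]
  exact hW60

end Cfsg.Agent.H63.RC
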